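import Groth.Agent.GrpSch.K270.DedLoc

/-!
# Flat separated group schemes of finite type over a Dedekind domain with affine generic fibre are affine
-/

set_option autoImplicit false
universe u

open CategoryTheory CategoryTheory.Limits AlgebraicGeometry MonoidalCategory CartesianMonoidalCategory MonObj

namespace K223.AffInt

open Groth.Agent.Sga3B

theorem isAffineHom_of_generic {R : Type u} [CommRing R] [IsDedekindDomain R] (K : Type u) [Field K] [Algebra R K]
    [IsFractionRing R K] (G : Over (Spec (CommRingCat.of R))) [GrpObj G] [Flat G.hom] [IsSeparated G.hom]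
    [LocallyOfFiniteType G.hom] [QuasiCompact G.hom]
    (haff : IsAffine (pullback G.hom (Spec.map (CommRingCat.ofHom (algebraMap R K))))) : IsAffineHom G.hom := by
  let j : Spec (CommRingCat.of K) ⟶ Spec (CommRingCat.of R) := Spec.map (CommRingCat.ofHom (algebraMap R K))
  have hflat : Flat j := by
    rw [HasRingHomProperty.Spec_iff (P := @Flat)]
    have : Module.Flat R K := IsLocalization.flat K (nonZeroDivisors R)
    exact RingHom.flat_algebraMap_iff.2 this
  have hdom : IsDominant j := by
    refine ⟨?_⟩
    refine (PrimeSpectrum.denseRange_comap_iff_ker_le_nilRadical (algebraMap R K)).2 ?_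
    rw [(RingHom.injective_iff_ker_eq_bot _).1 (IsFractionRing.injective R K)]
    exact bot_le
  have hd : IsSchemeTheoreticallyDominant j := .of_isDominant _
  let u : G ⟶ 𝟙_ (Over (Spec (CommRingCat.of R))) := toUnit G
  have hu : u.left = G.hom := by
    have := Over.w u
    exact (Category.comp_id _).symm.trans this
  have h1 : IsSeparated u.left := by rw [hu]; infer_instance
  have h2 : LocallyOfFiniteType (𝟙_ (Over (Spec (CommRingCat.of R)))).hom :=
    inferInstanceAs (LocallyOfFiniteType (𝟙 _))
  have h3 : QuasiCompact (𝟙_ (Over (Spec (CommRingCat.of R)))).hom :=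
    inferInstanceAs (QuasiCompact (𝟙 _))
  have h4 : IsMonHom u := inferInstance
  have hker : IsAffine (pullback (KerGrp.kerObj u).hom j) := by
    have h6 : IsIso (η[𝟙_ (Over (Spec (CommRingCat.of R)))]) := inferInstanceAs (IsIso (𝟙 _))
    have h7 : IsIso (KerGrp.kerι u) := (KerGrp.isPullback_ker u).isIso_fst_of_isIso
    have h8 : IsIso (KerGrp.kerι u).left := inferInstanceAs (IsIso ((Over.forget _).map (KerGrp.kerι u)))
    exact .of_isIso (pullback.map (KerGrp.kerObj u).hom j G.hom j (KerGrp.kerι u).left (𝟙 _) (𝟙 _)
      (by rw [Over.w, Category.comp_id]) (by simp))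
  have h5 := K270.DedLoc.main K j G (𝟙_ (Over (Spec (CommRingCat.of R)))) u hker
  rw [← hu]
  exact h5

end K223.AffInt
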