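import Groth.Agent.TateGlob.K223.OvUnif
import Groth.Agent.TateGlob.K223.AffInt
import Groth.Agent.TateGlob.K829.SIntBase

/-!
# `H^i(O_v, 𝒢^) → H^i(K_v, 𝒢^)` for affine `𝒢`, and `𝒢` is affine if its generic fibre is
-/

set_option autoImplicit false
universe u

open CategoryTheory CategoryTheory.Limits AlgebraicGeometry MonoidalCategory CartesianMonoidalCategory Opposite

namespace K223.OvRes

local notation "P" => Scheme.fppfPrecoverage

section

variable {k K : Type u} [Field k] [Field K] [Algebra k K] (S : Set (FunFld.Place k K))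
  (𝒢 : Over (Spec (CommRingCat.of (AdFn.SInt S)))) [GrpObj 𝒢] [IsCommMonObj 𝒢] [Flat 𝒢.hom] [IsAffineHom 𝒢.hom]

theorem isAffine_tens (X : Over (Spec (CommRingCat.of (AdFn.SInt S)))) (hX : IsAffine X.left) :
    IsAffine (𝒢 ⊗ X).left :=
  inferInstanceAs (IsAffine (pullback 𝒢.hom X.hom))

/-- `H^1(O_v, 𝒢^) → H^1(K_v, 𝒢^)` is injective. -/
theorem intRes_one_injective {v : FunFld.Place k K} (hv : v ∉ S) :
    Function.Injective (AdFn.intRes P S (CGrpSh2.dualSh P (CGrpSh.pts P 𝒢)) 1 hv) := by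
  obtain ⟨ϖ, hϖ⟩ := OvUnif.exists_unif v
  rw [injective_iff_map_eq_zero]
  intro x hx
  have hG : IsAffine (𝒢 ⊗ AdFn.specOf (AdFn.SInt.toOv S hv)).left :=
    isAffine_tens S 𝒢 _ (inferInstanceAs (IsAffine (Spec _)))
  exact DualInt.eq_zero_one (R := CommRingCat.of (AdFn.Ov v)) (R' := CommRingCat.of (AdFn.Kv v))
    (χ := CommRingCat.ofHom (AdFn.Ov v).subtype) ϖ (j := AdFn.intResHom S hv) rfl (OvUnif.away hϖ)
    (OvUnif.mem_nonZeroDivisors hϖ) (OvUnif.isMaximal hϖ) hG (K828.BigCoh.bigCoh P _) x hx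

/-- `H^0(O_v, 𝒢^) → H^0(K_v, 𝒢^)` is bijective. -/
theorem intRes_zero_bijective {v : FunFld.Place k K} (hv : v ∉ S) :
    Function.Bijective (AdFn.intRes P S (CGrpSh2.dualSh P (CGrpSh.pts P 𝒢)) 0 hv) := by
  obtain ⟨ϖ, hϖ⟩ := OvUnif.exists_unif v
  have hG : IsAffine (𝒢 ⊗ AdFn.specOf (AdFn.SInt.toOv S hv)).left :=
    isAffine_tens S 𝒢 _ (inferInstanceAs (IsAffine (Spec _)))
  have h := DualInt.sections_bijective (R := CommRingCat.of (AdFn.Ov v)) (R' := CommRingCat.of (AdFn.Kv v))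
    (χ := CommRingCat.ofHom (AdFn.Ov v).subtype) ϖ (j := AdFn.intResHom S hv) rfl (OvUnif.away hϖ)
    (OvUnif.mem_nonZeroDivisors hϖ) (OvUnif.isMaximal hϖ) hG
  have h2 := K827.Deg0b.hu0_resHU P (CGrpSh2.dualSh P (CGrpSh.pts P 𝒢)) (AdFn.intResHom S hv)
  have h3 : (K827.Deg0.hu0 P (CGrpSh2.dualSh P (CGrpSh.pts P 𝒢)) (AdFn.specOf (AdFn.SInt.toKv S v))) ∘
      (AdFn.intRes P S (CGrpSh2.dualSh P (CGrpSh.pts P 𝒢)) 0 hv) =
      ((CGrpSh2.dualSh P (CGrpSh.pts P 𝒢)).obj.map (AdFn.intResHom S hv).op) ∘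
        (K827.Deg0.hu0 P (CGrpSh2.dualSh P (CGrpSh.pts P 𝒢)) (AdFn.specOf (AdFn.SInt.toOv S hv))) :=
    funext h2
  rw [← Function.Bijective.of_comp_iff' (K827.Deg0.hu0 P (CGrpSh2.dualSh P (CGrpSh.pts P 𝒢))
    (AdFn.specOf (AdFn.SInt.toKv S v))).bijective, h3]
  exact h.comp (K827.Deg0.hu0 P _ _).bijective

end

/-- A model with affine generic fibre is affine. -/
theorem isAffineHom (Fq : Type u) [Field Fq] [Finite Fq] (K : Type u) [Field K] [Algebra (RatFunc Fq) K]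
    [FunctionField Fq K] [Algebra Fq K] [IsScalarTower Fq (RatFunc Fq) K]
    (S : Set (FunFld.Place Fq K)) (hS : S.Finite) (hne : S.Nonempty)
    (𝒢 : Over (Spec (CommRingCat.of (AdFn.SInt S)))) [GrpObj 𝒢]
    [Flat 𝒢.hom] [IsSeparated 𝒢.hom] [LocallyOfFiniteType 𝒢.hom] [QuasiCompact 𝒢.hom]
    (haff : IsAffine ↑(Limits.pullback 𝒢.hom (Spec.map (CommRingCat.ofHom (AdFn.SInt.toK S))))) :
    IsAffineHom 𝒢.hom := by
  obtain ⟨h1, h2⟩ := K829.SIntBase.isDedekind (K829.FunBase.isGen Fq K) hS hne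
  exact AffInt.isAffineHom_of_generic K 𝒢 haff

end K223.OvRes
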