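import Groth.Agent.TateGlob.K223.OvRes
import Groth.Agent.TateGlob.K834.Main
import Groth.Agent.TateLoc.K809.Chg
import Groth.Agent.TateLoc.K809.PtsPull

/-!
# `H²(O_v, 𝒢) = 0` for almost all `v`
-/

set_option autoImplicit false
universe u
open CategoryTheory CategoryTheory.Limits AlgebraicGeometry Opposite
open IsLocalRing

namespace K223.TwoVan

section one

variable {O : Type u} [CommRing O] {X : Over (Spec (CommRingCat.of O))} [GrpObj X] [IsCommMonObj X]

/-- Structured groups have no cohomology in degrees `≥ 2` over a henselian local ring with finite residue field. -/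
theorem subsingleton_of_isStr (h : K834.Str.IsStr X) (B : Type u) [CommRing B] [HenselianLocalRing B]
    [Finite (ResidueField B)] (φ : O →+* B) (n : ℕ) (hn : 1 < n) :
    Subsingleton (BigSite.HU Scheme.fppfPrecoverage (CGrpSh.pts Scheme.fppfPrecoverage X) n (AdFn.specOf φ)) := by
  obtain ⟨N, Q, Q0, E, _, _, _, _, _, _, _, _, u, v, i, p, _, _, _, _, h1, h2, h3, h4, h5, h6, h7, h8, h9, h10⟩ := h
  obtain ⟨w1, e1⟩ := h1.shortExact
  obtain ⟨w2, e2⟩ := h2.shortExact
  obtain ⟨-, h11, -, h12⟩ := h5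
  obtain ⟨f1, -, l1, -⟩ := h3
  obtain ⟨f2, -, l2, -⟩ := h6
  have v1 := K834.FinVan.subsingleton_one N B φ n hn
  have v2 := K834.FinVan.subsingleton_one E B φ n hn
  have v3 := K834.FinVan.smooth_one Q0 B φ n (by omega)
  have v4 : ∀ x : (K828.BigCoh.bigCoh Scheme.fppfPrecoverage (Spec (CommRingCat.of O))).H
      (CGrpSh.pts Scheme.fppfPrecoverage Q) n (AdFn.specOf φ), x = 0 := by
    intro x
    obtain ⟨z, rfl⟩ := (K828.BigCoh.bigCoh Scheme.fppfPrecoverage (Spec (CommRingCat.of O))).exact₂ e2 x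
      (@Subsingleton.elim _ v2 _ _)
    have : z = 0 := @Subsingleton.elim _ v3 _ _
    rw [this]
    exact map_zero _
  refine subsingleton_of_forall_eq 0 fun x => ?_
  obtain ⟨z, hz⟩ := (K828.BigCoh.bigCoh Scheme.fppfPrecoverage (Spec (CommRingCat.of O))).exact₂ e1 x (v4 _)
  have h0 : z = 0 := @Subsingleton.elim _ v1 _ _
  rw [← hz, h0]
  exact map_zero _

end one

variable {k K : Type u} [Field k] [Field K] [Algebra k K] {S : Set (FunFld.Place k K)}

/-- The group scheme over `O_S` as a model of its generic fibre. -/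
noncomputable def selfMdl (𝒢 : Over (Spec (CommRingCat.of (AdFn.SInt S)))) [GrpObj 𝒢] [IsCommMonObj 𝒢]
    [Flat 𝒢.hom] [IsSeparated 𝒢.hom] [LocallyOfFinitePresentation 𝒢.hom] [QuasiCompact 𝒢.hom] :
    K620.GMod.MdlS S (Red.bc (Spec.map (CommRingCat.ofHom (AdFn.SInt.toK S))) 𝒢) where
  X := 𝒢
  e := Iso.refl _
  mon := by
    change IsMonHom (𝟙 _)
    infer_instance

/-- Vanishing over `O_v` may be checked over a larger ring of integers. -/
theorem subsingleton_of_enl {G : Over (Spec (CommRingCat.of K))} [GrpObj G] (M : K620.GMod.MdlS S G)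
    {T : Set (FunFld.Place k K)} (h : S ⊆ T) (n : ℕ) {v : FunFld.Place k K} (hv : v ∉ T) (hv' : v ∉ S)
    (H : Subsingleton (AdFn.HInt Scheme.fppfPrecoverage T (CGrpSh.pts Scheme.fppfPrecoverage (M.enl h).X) n hv)) :
    Subsingleton (AdFn.HInt Scheme.fppfPrecoverage S (CGrpSh.pts Scheme.fppfPrecoverage M.X) n hv') := by
  refine (K809.Chg.subsingleton_iff (K809.Chg.inc h)
    (K809.PtsPull.ptsPull Scheme.fppfPrecoverage _ M.X) n (AdFn.SInt.toOv S hv') (AdFn.SInt.toOv T hv)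
    (K809.Chg.toOv_inc h hv hv')).mpr ?_
  exact H

section main

variable (Fq : Type u) [Field Fq] [Finite Fq] (K : Type u) [Field K] [Algebra (RatFunc Fq) K] [FunctionField Fq K]
    [Algebra Fq K] [IsScalarTower Fq (RatFunc Fq) K]

/-- `H^n(O_v, 𝒢) = 0` (`n ≥ 2`) for all `v` outside a finite set. -/
theorem exists_finite {S : Set (FunFld.Place Fq K)} (hS : S.Finite) (hne : S.Nonempty)
    (𝒢 : Over (Spec (CommRingCat.of (AdFn.SInt S)))) [GrpObj 𝒢] [IsCommMonObj 𝒢]
    [Flat 𝒢.hom] [IsSeparated 𝒢.hom] [LocallyOfFinitePresentation 𝒢.hom] [QuasiCompact 𝒢.hom] :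
    ∃ T : Set (FunFld.Place Fq K), T.Finite ∧ ∀ v, v ∉ T → ∀ (hv : v ∉ S) (n : ℕ), 1 < n →
      Subsingleton (AdFn.HInt Scheme.fppfPrecoverage S (CGrpSh.pts Scheme.fppfPrecoverage 𝒢) n hv) := by
  have i1 : LocallyOfFiniteType (Red.bc (Spec.map (CommRingCat.ofHom (AdFn.SInt.toK S))) 𝒢).hom :=
    inferInstanceAs (LocallyOfFiniteType (pullback.snd 𝒢.hom _))
  have i2 : QuasiCompact (Red.bc (Spec.map (CommRingCat.ofHom (AdFn.SInt.toK S))) 𝒢).hom :=
    inferInstanceAs (QuasiCompact (pullback.snd 𝒢.hom _))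
  obtain ⟨T, hT, h, hstr⟩ := K834.Main.exists_isStrS (K829.FunBase.isGen Fq K) hS hne (selfMdl 𝒢)
  refine ⟨T, hT, fun v hv hv' n hn => ?_⟩
  refine subsingleton_of_enl (selfMdl 𝒢) h n hv hv' ?_
  have h1 : HenselianLocalRing (AdFn.Ov v) := K829.OvHens.henselian v
  have h2 : Finite (IsLocalRing.ResidueField (AdFn.Ov v)) := K834.ResFin.finite_residueField Fq K v
  exact subsingleton_of_isStr (hstr (le_refl T)) (AdFn.Ov v) (AdFn.SInt.toOv T hv) n hn

end main

end K223.TwoVan
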