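import Mathlib.AlgebraicGeometry.Morphisms.Affine
import Mathlib.AlgebraicGeometry.Morphisms.Flat
import Mathlib.Algebra.Category.Ring.Constructions
import Mathlib.RingTheory.Localization.BaseChange
import Mathlib.RingTheory.Flat.Localization
import Mathlib.LinearAlgebra.Dual.Lemmas

/-!
# Functions on base changes of affine schemes over `Spec R`

* `isPushout_str`: the square of functions of a base change.
* `away_*`: base change to the localisation away from a nonzerodivisor `π` of `R`: functions become fractions.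
* `mem_of_field`: base change to a field `κ` in which `π` dies: the kernel is generated by `π`.
* `eq_zero_of_sq`: `f ⊗ f = 0` on a square over a field implies `f = 0`.
-/

set_option autoImplicit false
universe u

open CategoryTheory CategoryTheory.Limits AlgebraicGeometry TensorProduct

namespace K223.CharAlg

/-! ## Rings -/

section rings

variable {R A B P : Type u} [CommRing R] [CommRing A] [CommRing B] [CommRing P] [Algebra R A] [Algebra R B]
  [Algebra A P] [Algebra B P] [Algebra R P] [IsScalarTower R A P] [IsScalarTower R B P]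

theorem away_of_isPushout [h : Algebra.IsPushout R A B P] (ϖ : R) [IsLocalization.Away ϖ B] :
    IsLocalization.Away (algebraMap R A ϖ) P := by
  have h1 : Algebra.IsPushout R A B P := h
  have h2 := (Algebra.isLocalization_iff_isPushout (R := R) (Submonoid.powers ϖ) (A := B) (T := A) (B := P)).2 h1
  have h3 : Algebra.algebraMapSubmonoid A (Submonoid.powers ϖ) = Submonoid.powers (algebraMap R A ϖ) := by
    simp [Algebra.algebraMapSubmonoid, Submonoid.map_powers]
  rw [h3] at h2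
  exact h2

theorem mem_of_isPushout [h : Algebra.IsPushout R A B P] [Module.Flat R A] (I : Ideal R)
    (hI : RingHom.ker (algebraMap R B) = I) (a : A) (ha : algebraMap A P a = 0) :
    a ∈ I.map (algebraMap R A) := by
  have h1 : Algebra.IsPushout R A B P := h
  let e : A ⊗[R] B ≃ₐ[A] P := Algebra.IsPushout.equiv R A B P
  have h2 : (a ⊗ₜ[R] (1 : B)) = 0 := by
    apply e.injective
    rw [map_zero, Algebra.IsPushout.equiv_tmul, map_one, mul_one, ha]
  -- the injection `R ⧸ I → B`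
  let j : (R ⧸ I) →ₗ[R] B := (Ideal.Quotient.liftₐ I (Algebra.ofId R B) (fun x hx => by
    rw [← hI] at hx; exact hx)).toLinearMap
  have hj : Function.Injective j := by
    intro x y hxy
    obtain ⟨x, rfl⟩ := Ideal.Quotient.mk_surjective x
    obtain ⟨y, rfl⟩ := Ideal.Quotient.mk_surjective y
    have h3 : algebraMap R B x = algebraMap R B y := hxy
    rw [Ideal.Quotient.mk_eq_mk_iff_sub_mem, ← hI, RingHom.mem_ker, map_sub, h3, sub_self]
  have h4 := Module.Flat.lTensor_preserves_injective_linearMap (M := A) j hj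
  have h5 : (a ⊗ₜ[R] (1 : R ⧸ I)) = 0 := by
    apply h4
    rw [map_zero, LinearMap.lTensor_tmul]
    have : j 1 = 1 := map_one (Ideal.Quotient.liftₐ I (Algebra.ofId R B) (fun x hx => by
      rw [← hI] at hx; exact hx))
    rw [this, h2]
  let l : A ⊗[R] (R ⧸ I) →ₐ[R] A ⧸ I.map (algebraMap R A) :=
    Algebra.TensorProduct.lift (Ideal.Quotient.mkₐ R _)
      (Ideal.Quotient.liftₐ I (Algebra.ofId R (A ⧸ I.map (algebraMap R A))) (fun x hx => by
        change algebraMap R (A ⧸ I.map (algebraMap R A)) x = 0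
        rw [IsScalarTower.algebraMap_apply R A, Ideal.Quotient.algebraMap_eq, Ideal.Quotient.eq_zero_iff_mem]
        exact Ideal.mem_map_of_mem _ hx)) (fun _ _ => Commute.all _ _)
  have h6 := congrArg l h5
  rw [map_zero, Algebra.TensorProduct.lift_tmul, map_one, mul_one] at h6
  exact Ideal.Quotient.eq_zero_iff_mem.1 h6

end rings

theorem tmul_eq_zero {κ V W : Type*} [Field κ] [AddCommGroup V] [Module κ V] [AddCommGroup W] [Module κ W]
    (x : V) (y : W) (h : x ⊗ₜ[κ] y = 0) : x = 0 ∨ y = 0 := by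
  by_contra hcon
  push Not at hcon
  obtain ⟨hx, hy⟩ := hcon
  obtain ⟨φ, hφ⟩ := Module.Projective.exists_dual_ne_zero κ hx
  obtain ⟨ψ, hψ⟩ := Module.Projective.exists_dual_ne_zero κ hy
  have h1 := congrArg (TensorProduct.lift (LinearMap.smulRight φ ψ) : V ⊗[κ] W →ₗ[κ] κ) h
  simp only [TensorProduct.lift.tmul, map_zero] at h1
  have h2 : φ x * ψ y = 0 := h1
  rcases mul_eq_zero.1 h2 with h3 | h3
  · exact hφ h3
  · exact hψ h3

/-! ## Schemes -/

/-- The structure map `R → Γ(X)` of an `R`-scheme. -/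
noncomputable def str {R : CommRingCat.{u}} {X : Scheme.{u}} (f : X ⟶ Spec R) : R ⟶ Γ(X, ⊤) :=
  (Scheme.ΓSpecIso R).inv ≫ f.appTop

theorem str_comp {R : CommRingCat.{u}} {X Y : Scheme.{u}} (g : Y ⟶ X) (f : X ⟶ Spec R) :
    str (g ≫ f) = str f ≫ g.appTop := by
  rw [str, str, Scheme.Hom.comp_appTop, Category.assoc]

theorem str_comp_apply {R : CommRingCat.{u}} {X Y : Scheme.{u}} (g : Y ⟶ X) (f : X ⟶ Spec R) (r : R) :
    g.appTop (str f r) = str (g ≫ f) r := by
  rw [str_comp]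
  rfl

theorem str_specMap {R R' : CommRingCat.{u}} {X : Scheme.{u}} (f : X ⟶ Spec R') (χ : R ⟶ R') :
    str (f ≫ Spec.map χ) = χ ≫ str f := by
  rw [str, str, Scheme.Hom.comp_appTop, ← Category.assoc, ← Category.assoc, Scheme.ΓSpecIso_inv_naturality]

theorem isPushout_str {R R' : CommRingCat.{u}} {X P : Scheme.{u}} {fst : P ⟶ X} {snd : P ⟶ Spec R'}
    {f : X ⟶ Spec R} {χ : R ⟶ R'} [IsAffine X] (h : IsPullback fst snd f (Spec.map χ)) :
    IsPushout (str f) χ fst.appTop (str snd) := by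
  have h1 := isPushout_appTop_of_isPullback h
  refine h1.of_iso (Scheme.ΓSpecIso R) (Iso.refl _) (Scheme.ΓSpecIso R') (Iso.refl _) ?_ ?_ ?_ ?_
  · simp [str]
  · exact Scheme.ΓSpecIso_naturality χ
  · simp
  · simp [str]

theorem flat_str {R : CommRingCat.{u}} {X : Scheme.{u}} (f : X ⟶ Spec R) [IsAffine X] [Flat f] :
    (str f).hom.Flat := by
  have h1 : f.appTop.hom.Flat := (HasRingHomProperty.iff_of_isAffine (P := @Flat)).1 inferInstance
  exact RingHom.Flat.comp (RingHom.Flat.of_bijective (ConcreteCategory.bijective_of_isIso (Scheme.ΓSpecIso R).inv)) h1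

/-- Base change to a localisation. -/
theorem away_appTop {R R' : CommRingCat.{u}} {X P : Scheme.{u}} {fst : P ⟶ X} {snd : P ⟶ Spec R'}
    {f : X ⟶ Spec R} {χ : R ⟶ R'} [IsAffine X] (h : IsPullback fst snd f (Spec.map χ)) (ϖ : R)
    (hϖ : @IsLocalization.Away R _ ϖ R' _ χ.hom.toAlgebra) :
    @IsLocalization.Away Γ(X, ⊤) _ (str f ϖ) Γ(P, ⊤) _ fst.appTop.hom.toAlgebra := by
  have h1 := isPushout_str h
  algebraize [(str f).hom, χ.hom, fst.appTop.hom, (str snd).hom, fst.appTop.hom.comp (str f).hom]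
  have : IsScalarTower R R' Γ(P, ⊤) := .of_algebraMap_eq' (congrArg CommRingCat.Hom.hom h1.w)
  have h2 : Algebra.IsPushout R Γ(X, ⊤) R' Γ(P, ⊤) := CommRingCat.isPushout_iff_isPushout.1 h1
  exact away_of_isPushout (B := R') ϖ

/-- The kernel of functions under base change to a field where `ϖ` dies. -/
theorem mem_of_field {R κ : CommRingCat.{u}} {X P : Scheme.{u}} {fst : P ⟶ X} {snd : P ⟶ Spec κ}
    {f : X ⟶ Spec R} {χ : R ⟶ κ} [IsAffine X] [Flat f] (h : IsPullback fst snd f (Spec.map χ)) (ϖ : R)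
    (hϖ : RingHom.ker χ.hom = Ideal.span {ϖ}) (a : Γ(X, ⊤)) (ha : fst.appTop a = 0) :
    ∃ b : Γ(X, ⊤), a = str f ϖ * b := by
  have h1 := isPushout_str h
  have h3 := flat_str f
  algebraize [(str f).hom, χ.hom, fst.appTop.hom, (str snd).hom, fst.appTop.hom.comp (str f).hom]
  have : IsScalarTower R κ Γ(P, ⊤) := .of_algebraMap_eq' (congrArg CommRingCat.Hom.hom h1.w)
  have h2 : Algebra.IsPushout R Γ(X, ⊤) κ Γ(P, ⊤) := CommRingCat.isPushout_iff_isPushout.1 h1
  have h4 := mem_of_isPushout (Ideal.span {ϖ}) hϖ a ha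
  rw [Ideal.map_span, Set.image_singleton, Ideal.mem_span_singleton] at h4
  exact h4

/-- Squares over a field. -/
theorem eq_zero_of_sq {κ : CommRingCat.{u}} (hκ : IsField κ) {X P : Scheme.{u}} {fst snd : P ⟶ X}
    {f : X ⟶ Spec κ} [IsAffine X] (h : IsPullback fst snd f f) (a : Γ(X, ⊤))
    (ha : fst.appTop a * snd.appTop a = 0) : a = 0 := by
  have h1 := isPushout_appTop_of_isPullback h
  let _ := hκ.toField
  let _ : Algebra κ Γ(X, ⊤) := (str f).hom.toAlgebra
  let d1 : Γ(X, ⊤) ⟶ CommRingCat.of (Γ(X, ⊤) ⊗[κ] Γ(X, ⊤)) :=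
    CommRingCat.ofHom Algebra.TensorProduct.includeLeftRingHom
  let d2 : Γ(X, ⊤) ⟶ CommRingCat.of (Γ(X, ⊤) ⊗[κ] Γ(X, ⊤)) :=
    CommRingCat.ofHom Algebra.TensorProduct.includeRight.toRingHom
  have w : f.appTop ≫ d1 = f.appTop ≫ d2 := by
    rw [← cancel_epi (Scheme.ΓSpecIso κ).inv]
    change str f ≫ d1 = str f ≫ d2
    ext r
    change (algebraMap κ Γ(X, ⊤) r) ⊗ₜ[κ] (1 : Γ(X, ⊤)) = (1 : Γ(X, ⊤)) ⊗ₜ[κ] (algebraMap κ Γ(X, ⊤) r)
    rw [Algebra.algebraMap_eq_smul_one, TensorProduct.smul_tmul]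
  have h2 := congrArg (h1.desc d1 d2 w) ha
  rw [map_mul, map_zero] at h2
  have h3 : (h1.desc d1 d2 w) (fst.appTop a) = a ⊗ₜ[κ] (1 : Γ(X, ⊤)) :=
    congrArg (fun q => q.hom a) (h1.inl_desc d1 d2 w)
  have h4 : (h1.desc d1 d2 w) (snd.appTop a) = (1 : Γ(X, ⊤)) ⊗ₜ[κ] a :=
    congrArg (fun q => q.hom a) (h1.inr_desc d1 d2 w)
  rw [h3, h4] at h2
  have h5 : (a ⊗ₜ[κ] (1 : Γ(X, ⊤))) * ((1 : Γ(X, ⊤)) ⊗ₜ[κ] a) = a ⊗ₜ[κ] a := by
    rw [Algebra.TensorProduct.tmul_mul_tmul, mul_one, one_mul]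
  have h6 : a ⊗ₜ[κ] a = 0 := h5.symm.trans h2
  rcases tmul_eq_zero a a h6 with h | h <;> exact h

end K223.CharAlg
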