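import Groth.Agent.TateGlob.K223.CharFn
import Groth.Agent.GmDual.K778.DualNorm

/-!
# Extension of characters from `K_v` to `O_v`

`G` flat over `S`, `T = Spec R ⟶ S`, `G ⊗ T` affine, `T' = Spec R[1/ϖ]`.  A family of characters of `G` over `W' = W ×_T T'`
(`W ⟶ T` affine and flat) whose "coboundary" extends to `W ×_T W` extends to `W`.
-/

set_option autoImplicit false
set_option linter.unusedSectionVars false
universe u

open CategoryTheory CategoryTheory.Limits AlgebraicGeometry MonoidalCategory CartesianMonoidalCategory MonObj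

namespace K223.CharExt

open K223.CharAlg K223.CharFn

variable {S : Scheme.{u}}

/-- pullback of functions -/
noncomputable def pb {Z Z' : Over S} (e : Z' ⟶ Z) : Γ(Z.left, ⊤) →+* Γ(Z'.left, ⊤) := e.left.appTop.hom

theorem pb_comp {Z Z' Z'' : Over S} (e' : Z'' ⟶ Z') (e : Z' ⟶ Z) (x : Γ(Z.left, ⊤)) :
    pb (e' ≫ e) x = pb e' (pb e x) := by
  simp only [pb, Over.comp_left, Scheme.Hom.comp_appTop, CommRingCat.hom_comp, RingHom.comp_apply]

theorem gmFn_comp {Z Z' : Over S} (e : Z' ⟶ Z) (x : Z ⟶ Red.Gm S) : Red.gmFn (e ≫ x) = pb e (Red.gmFn x) :=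
  GmPts.gmFn_comp e x

section

variable {R : CommRingCat.{u}} {t : Spec R ⟶ S}

/-- constants -/
noncomputable def cst (ϖ : R) {Z : Over S} (q : Z ⟶ Over.mk t) : Γ(Z.left, ⊤) := str (R := R) q.left ϖ

theorem pb_cst (ϖ : R) {Z Z' : Over S} (e : Z' ⟶ Z) (q : Z ⟶ Over.mk t) : pb e (cst ϖ q) = cst ϖ (e ≫ q) :=
  str_comp_apply e.left q.left ϖ

theorem cst_eq_zero (ϖ : R) {κ : CommRingCat.{u}} {ρ : R ⟶ κ} {k : Spec κ ⟶ S} {q : Over.mk k ⟶ Over.mk t}
    (hq : q.left = Spec.map ρ) (h : ρ.hom ϖ = 0) : cst ϖ q = 0 := by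
  have h1 : str (R := R) q.left = ρ ≫ (Scheme.ΓSpecIso κ).inv := by
    rw [hq, str, Scheme.ΓSpecIso_inv_naturality]
  have h2 := congrArg (fun a => a.hom ϖ) h1
  refine Eq.trans h2 ?_
  change (Scheme.ΓSpecIso κ).inv.hom (ρ.hom ϖ) = 0
  rw [h, map_zero]

end

section

variable {R R' κ : CommRingCat.{u}} {χ : R ⟶ R'} (ϖ : R) {t : Spec R ⟶ S} {t' : Spec R' ⟶ S}
  {j : Over.mk t' ⟶ Over.mk t} (hj : j.left = Spec.map χ)
  (hloc : @IsLocalization.Away R _ ϖ R' _ χ.hom.toAlgebra) (hreg : ϖ ∈ nonZeroDivisors R)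
  {G : Over S} [GrpObj G] [Flat G.hom] (hG : IsAffine (G ⊗ Over.mk t).left)
  {W W' P P' : Over S} {p : W ⟶ Over.mk t} (hW : IsAffine W.left) (hp : Flat p.left)
  {g' : W' ⟶ W} {p' : W' ⟶ Over.mk t'} (hW' : IsPullback g' p' p j)
  {q₁ q₂ : P ⟶ W} (hP : IsPullback q₁ q₂ p p)
  {r : P' ⟶ P} {s : P' ⟶ Over.mk t'} (hP' : IsPullback r s (q₁ ≫ p) j)
  {q₁' q₂' : P' ⟶ W'} (hq₁ : q₁' ≫ g' = r ≫ q₁) (hq₂ : q₂' ≫ g' = r ≫ q₂)

include hj hloc hreg hG hW hp hW' in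
theorem rel_hom {β : G ⊗ W' ⟶ Red.Gm S} (hβ : AutFam.IsHomFamily G (Red.Gm S) β) {n : ℕ}
    {f : Γ((G ⊗ W).left, ⊤)} (hf : pb (G ◁ g') f = pb (G ◁ g') (cst ϖ (snd G W ≫ p)) ^ n * Red.gmFn β) :
    pb (fst G G ▷ W) f * pb (snd G G ▷ W) f = cst ϖ (snd (G ⊗ G) W ≫ p) ^ n * pb (μ[G] ▷ W) f := by
  have h0 : IsAffine (G ⊗ W).left := isAffine_tens G p (inferInstanceAs (IsAffine (Spec R))) hW hG
  have h1 : IsAffine ((G ⊗ G) ⊗ W).left := isAffine_tens_sq G W hW h0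
  have h2 : Flat (G ⊗ G).hom := flat_tens_hom G G
  have h3 : Flat (snd (G ⊗ G) W ≫ p).left := flat_struct (G ⊗ G) p hp
  apply appTop_injective ϖ hj hloc (isPullback_tens (G ⊗ G) hW') h1 hreg h3
  change pb ((G ⊗ G) ◁ g') _ = pb ((G ⊗ G) ◁ g') _
  have hb := (isHomFamily_iff β).1 hβ
  have hb' := congrArg (fun x => Red.gmFn x) hb
  simp only [GmPts.gmFn_mul, gmFn_comp] at hb'
  have e : ∀ m : G ⊗ G ⟶ G, pb ((G ⊗ G) ◁ g') (pb (m ▷ W) f) =
      cst ϖ (snd (G ⊗ G) W' ≫ g' ≫ p) ^ n * pb (m ▷ W') (Red.gmFn β) := by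
    intro m
    rw [← pb_comp, whisker_exchange, pb_comp, hf, map_mul, map_pow, pb_cst, pb_cst]
    congr 3
    simp
  rw [map_mul, e, e, map_mul, e, map_pow, pb_cst, hb']
  have e2 : (G ⊗ G) ◁ g' ≫ snd (G ⊗ G) W ≫ p = snd (G ⊗ G) W' ≫ g' ≫ p := by simp
  rw [e2]
  ring

include hj hloc hreg hG hW hp hP hP' hq₁ hq₂ hW' in
theorem rel_coc {β : G ⊗ W' ⟶ Red.Gm S} {γ : G ⊗ P ⟶ Red.Gm S}
    (hγ : G ◁ q₂' ≫ β = (G ◁ r ≫ γ) * (G ◁ q₁' ≫ β)) {n : ℕ}
    {f : Γ((G ⊗ W).left, ⊤)} (hf : pb (G ◁ g') f = pb (G ◁ g') (cst ϖ (snd G W ≫ p)) ^ n * Red.gmFn β) :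
    pb (G ◁ q₂) f = Red.gmFn γ * pb (G ◁ q₁) f := by
  have hPa : IsAffine P.left := by
    have h : IsPullback q₁.left q₂.left p.left p.left := hP.map (Over.forget S)
    have : IsAffine (Over.mk t).left := inferInstanceAs (IsAffine (Spec R))
    exact IsAffine.of_isPullback h
  have h0 : IsAffine (G ⊗ P).left := isAffine_tens G (q₁ ≫ p) (inferInstanceAs (IsAffine (Spec R))) hPa hG
  have h1 : Flat (q₁ ≫ p).left := by
    have h : IsPullback q₁.left q₂.left p.left p.left := hP.map (Over.forget S)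
    have : Flat q₁.left := MorphismProperty.of_isPullback (P := @Flat) h.flip hp
    rw [Over.comp_left]
    infer_instance
  have h3 : Flat (snd G P ≫ q₁ ≫ p).left := flat_struct G _ h1
  apply appTop_injective ϖ hj hloc (isPullback_tens G hP') h0 hreg h3
  change pb (G ◁ r) _ = pb (G ◁ r) _
  have hb' := congrArg (fun x => Red.gmFn x) hγ
  simp only [GmPts.gmFn_mul, gmFn_comp] at hb'
  have e : ∀ (q : P ⟶ W) (q' : P' ⟶ W') (_ : q' ≫ g' = r ≫ q), pb (G ◁ r) (pb (G ◁ q) f) =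
      cst ϖ (snd G P' ≫ r ≫ q ≫ p) ^ n * pb (G ◁ q') (Red.gmFn β) := by
    intro q q' hq
    rw [← pb_comp, ← whiskerLeft_comp, ← hq, whiskerLeft_comp, pb_comp, hf, map_mul, map_pow, pb_cst, pb_cst]
    congr 3
    simp [reassoc_of% hq]
  rw [map_mul, e q₁ q₁' hq₁, e q₂ q₂' hq₂, hb', ← hP.w]
  ring

include hj hloc hreg hG hW hp hP hP' hq₁ hq₂ hW' in
/-- The main step: a numerator is divisible by `ϖ`. -/
theorem step (hκ : IsField κ) {ρ : R ⟶ κ} (hker : RingHom.ker ρ.hom = Ideal.span {ϖ}) {k : Spec κ ⟶ S}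
    {w : Over.mk k ⟶ W} (hw : (w ≫ p).left = Spec.map ρ)
    {β : G ⊗ W' ⟶ Red.Gm S} (hβ : AutFam.IsHomFamily G (Red.Gm S) β) {γ : G ⊗ P ⟶ Red.Gm S}
    (hγ : G ◁ q₂' ≫ β = (G ◁ r ≫ γ) * (G ◁ q₁' ≫ β)) {n : ℕ}
    {f : Γ((G ⊗ W).left, ⊤)} (hf : pb (G ◁ g') f = pb (G ◁ g') (cst ϖ (snd G W ≫ p)) ^ (n + 1) * Red.gmFn β) :
    ∃ b, f = cst ϖ (snd G W ≫ p) * b := by
  have hρ : ρ.hom ϖ = 0 := by
    have : ϖ ∈ RingHom.ker ρ.hom := by rw [hker]; exact Ideal.mem_span_singleton_self _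
    exact this
  have hKa : IsAffine (G ⊗ Over.mk k).left :=
    isAffine_tens G (w ≫ p) (inferInstanceAs (IsAffine (Spec R))) (inferInstanceAs (IsAffine (Spec κ))) hG
  -- the fibre vanishes
  have h1 : pb (G ◁ w) f = 0 := by
    have h2 := rel_hom ϖ hj hloc hreg hG hW hp hW' hβ hf
    have h3 := congrArg (pb ((G ⊗ G) ◁ w)) h2
    have e : ∀ m : G ⊗ G ⟶ G, pb ((G ⊗ G) ◁ w) (pb (m ▷ W) f) = pb (m ▷ Over.mk k) (pb (G ◁ w) f) := by
      intro m
      rw [← pb_comp, whisker_exchange, pb_comp]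
    rw [map_mul, map_mul, map_pow, pb_cst, e, e] at h3
    have e2 : (G ⊗ G) ◁ w ≫ snd (G ⊗ G) W ≫ p = snd (G ⊗ G) (Over.mk k) ≫ w ≫ p := by simp
    rw [e2, ← pb_cst, cst_eq_zero ϖ hw hρ, map_zero, pow_succ, mul_zero, zero_mul] at h3
    have h4 : IsPullback (fst G G ▷ Over.mk k).left (snd G G ▷ Over.mk k).left (snd G (Over.mk k)).left
      (snd G (Over.mk k)).left := (isPullback_sq G (Over.mk k)).map (Over.forget S)
    exact eq_zero_of_sq hκ h4 _ h3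
  -- pull back the cocycle relation
  have h5 := rel_coc ϖ hj hloc hreg hG hW hp hW' hP hP' hq₁ hq₂ hγ hf
  have hL : IsPullback (pullback.fst (w ≫ p) p) (pullback.snd (w ≫ p) p) (w ≫ p) p := IsPullback.of_hasPullback _ _
  let l : pullback (w ≫ p) p ⟶ P := hP.lift (pullback.fst (w ≫ p) p ≫ w) (pullback.snd (w ≫ p) p) (by
    rw [Category.assoc]; exact hL.w)
  have hl1 : l ≫ q₁ = pullback.fst (w ≫ p) p ≫ w := hP.lift_fst _ _ _
  have hl2 : l ≫ q₂ = pullback.snd (w ≫ p) p := hP.lift_snd _ _ _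
  have h6 := congrArg (pb (G ◁ l)) h5
  rw [map_mul, ← pb_comp, ← pb_comp, ← whiskerLeft_comp, ← whiskerLeft_comp, hl1, hl2, whiskerLeft_comp, pb_comp,
    h1, map_zero, mul_zero] at h6
  have h7 := (isPullback_tens G hL.flip).map (Over.forget S)
  have h8 : IsPullback (G ◁ (pullback.snd (w ≫ p) p)).left (snd G _ ≫ (pullback.fst (w ≫ p) p)).left
      (snd G W ≫ p).left (Spec.map ρ) := by
    rw [← hw]
    exact h7
  have h9 : IsAffine (G ⊗ W).left := isAffine_tens G p (inferInstanceAs (IsAffine (Spec R))) hW hG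
  have h10 : Flat (snd G W ≫ p).left := flat_struct G p hp
  exact mem_of_field h8 ϖ hker f h6

include hj hloc hreg hG hW hp hP hP' hq₁ hq₂ hW' in
/-- `β` extends to a function. -/
theorem exists_fn (hκ : IsField κ) {ρ : R ⟶ κ} (hker : RingHom.ker ρ.hom = Ideal.span {ϖ}) {k : Spec κ ⟶ S}
    {w : Over.mk k ⟶ W} (hw : (w ≫ p).left = Spec.map ρ)
    {β : G ⊗ W' ⟶ Red.Gm S} (hβ : AutFam.IsHomFamily G (Red.Gm S) β) {γ : G ⊗ P ⟶ Red.Gm S}
    (hγ : G ◁ q₂' ≫ β = (G ◁ r ≫ γ) * (G ◁ q₁' ≫ β)) :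
    ∃ f : Γ((G ⊗ W).left, ⊤), pb (G ◁ g') f = Red.gmFn β := by
  have h0 : IsAffine (G ⊗ W).left := isAffine_tens G p (inferInstanceAs (IsAffine (Spec R))) hW hG
  obtain ⟨n, f, hf⟩ := exists_num ϖ hj hloc (isPullback_tens G hW') h0 (Red.gmFn β)
  replace hf : pb (G ◁ g') f = pb (G ◁ g') (cst ϖ (snd G W ≫ p)) ^ n * Red.gmFn β := hf
  induction n generalizing f with
  | zero => exact ⟨f, by rw [hf, pow_zero, _root_.one_mul]⟩
  | succ n ih =>
    obtain ⟨b, hb⟩ := step ϖ hj hloc hreg hG hW hp hW' hP hP' hq₁ hq₂ hκ hker hw hβ hγ hf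
    refine ih b ?_
    have hu : IsUnit (pb (G ◁ g') (cst ϖ (snd G W ≫ p))) := isUnit_str ϖ hj hloc (isPullback_tens G hW') h0
    apply hu.mul_left_cancel
    rw [hb, map_mul] at hf
    rw [hf]
    ring

end

section sheaf

local notation "K" => Scheme.fppfPrecoverage

variable {R R' κ : CommRingCat.{u}} {χ : R ⟶ R'} (ϖ : R) {t : Spec R ⟶ S} {t' : Spec R' ⟶ S}
  {j : Over.mk t' ⟶ Over.mk t} (hj : j.left = Spec.map χ)
  (hloc : @IsLocalization.Away R _ ϖ R' _ χ.hom.toAlgebra) (hreg : ϖ ∈ nonZeroDivisors R)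
  {G : Over S} [GrpObj G] [IsCommMonObj G] [Flat G.hom] (hG : IsAffine (G ⊗ Over.mk t).left)

include hj hloc hreg in
/-- Points of `𝔾_m` over a flat affine `T`-scheme are determined by their restriction to the generic fibre. -/
theorem gm_ext {Z Z' : Over S} {q : Z ⟶ Over.mk t} {a : Z' ⟶ Z} {b : Z' ⟶ Over.mk t'} (h : IsPullback a b q j)
    (hZ : IsAffine Z.left) (hq : Flat q.left) {x y : Z ⟶ Red.Gm S} (hxy : a ≫ x = a ≫ y) : x = y := by
  apply GmPts.gmFn_injective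
  apply appTop_injective ϖ hj hloc h hZ hreg hq
  change pb a (Red.gmFn x) = pb a (Red.gmFn y)
  rw [← gmFn_comp, ← gmFn_comp, hxy]

include hj hloc hreg hG in
/-- Sections of the dual sheaf over a flat affine `T`-scheme are determined by their restriction to the generic fibre. -/
theorem sec_ext {W W' : Over S} {p : W ⟶ Over.mk t} (hW : IsAffine W.left) (hp : Flat p.left)
    {g' : W' ⟶ W} {p' : W' ⟶ Over.mk t'} (hW' : IsPullback g' p' p j)
    {x y : (K311.Fam.hom K G (Red.Gm S)).obj.obj (Opposite.op W)}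
    (h : (K311.Fam.hom K G (Red.Gm S)).obj.map g'.op x = (K311.Fam.hom K G (Red.Gm S)).obj.map g'.op y) : x = y := by
  apply K311.Fam.fam_injective K (T := W)
  have h0 : IsAffine (G ⊗ W).left := isAffine_tens G p (inferInstanceAs (IsAffine (Spec R))) hW hG
  refine gm_ext ϖ hj hloc hreg (isPullback_tens G hW') h0 (flat_struct G p hp) ?_
  rw [← K311.Fam.fam_map K g' x, ← K311.Fam.fam_map K g' y, h]

include hj hloc hreg hG in
/-- Extension of sections of the dual sheaf. -/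
theorem extend {W W' P P' : Over S} {p : W ⟶ Over.mk t} (hW : IsAffine W.left) (hp : Flat p.left)
    {g' : W' ⟶ W} {p' : W' ⟶ Over.mk t'} (hW' : IsPullback g' p' p j)
    {q₁ q₂ : P ⟶ W} (hP : IsPullback q₁ q₂ p p)
    {r : P' ⟶ P} {s : P' ⟶ Over.mk t'} (hP' : IsPullback r s (q₁ ≫ p) j)
    {q₁' q₂' : P' ⟶ W'} (hq₁ : q₁' ≫ g' = r ≫ q₁) (hq₂ : q₂' ≫ g' = r ≫ q₂)
    (hκ : IsField κ) {ρ : R ⟶ κ} (hker : RingHom.ker ρ.hom = Ideal.span {ϖ}) {k : Spec κ ⟶ S}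
    {w : Over.mk k ⟶ W} (hw : (w ≫ p).left = Spec.map ρ)
    (x : (K311.Fam.hom K G (Red.Gm S)).obj.obj (Opposite.op W'))
    (c : (K311.Fam.hom K G (Red.Gm S)).obj.obj (Opposite.op P))
    (hc : (K311.Fam.hom K G (Red.Gm S)).obj.map q₂'.op x =
      (K311.Fam.hom K G (Red.Gm S)).obj.map r.op c + (K311.Fam.hom K G (Red.Gm S)).obj.map q₁'.op x) :
    ∃ y : (K311.Fam.hom K G (Red.Gm S)).obj.obj (Opposite.op W),
      (K311.Fam.hom K G (Red.Gm S)).obj.map g'.op y = x ∧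
      (K311.Fam.hom K G (Red.Gm S)).obj.map q₂.op y = c + (K311.Fam.hom K G (Red.Gm S)).obj.map q₁.op y := by
  have key : ∀ (x : (K311.Fam.hom K G (Red.Gm S)).obj.obj (Opposite.op W'))
    (c : (K311.Fam.hom K G (Red.Gm S)).obj.obj (Opposite.op P)),
    (K311.Fam.hom K G (Red.Gm S)).obj.map q₂'.op x =
      (K311.Fam.hom K G (Red.Gm S)).obj.map r.op c + (K311.Fam.hom K G (Red.Gm S)).obj.map q₁'.op x →
    ∃ f : Γ((G ⊗ W).left, ⊤), pb (G ◁ g') f = Red.gmFn (K311.Fam.fam K x) := by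
    intro x c hc
    refine exists_fn ϖ hj hloc hreg hG hW hp hW' hP hP' hq₁ hq₂ hκ hker hw (K311.Fam.isHomFamily_fam K x)
      (γ := K311.Fam.fam K c) ?_
    rw [← K311.Fam.fam_map K q₂' x, ← K311.Fam.fam_map K q₁' x, ← K311.Fam.fam_map K r c, hc, K311.Fam.fam_add]
  obtain ⟨f, hf⟩ := key x c hc
  obtain ⟨f', hf'⟩ := key (-x) (-c) (by rw [map_neg, map_neg, map_neg, hc, neg_add])
  have h0 : IsAffine (G ⊗ W).left := isAffine_tens G p (inferInstanceAs (IsAffine (Spec R))) hW hG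
  have hff : f * f' = 1 := by
    apply appTop_injective ϖ hj hloc (isPullback_tens G hW') h0 hreg (flat_struct G p hp)
    change pb (G ◁ g') _ = pb (G ◁ g') _
    rw [map_mul, hf, hf', map_one, ← GmPts.gmFn_mul, ← K311.Fam.fam_add, add_neg_cancel, K311.Fam.fam_zero,
      GmPts.gmFn_one]
  let φ : G ⊗ W ⟶ Red.Gm S := GmPts.ptOfUnit ⟨f, f', hff, by rw [mul_comm, hff]⟩
  have hφ : Red.gmFn φ = f := GmPts.gmFn_ptOfUnit _
  have h1 : G ◁ g' ≫ φ = K311.Fam.fam K x := by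
    apply GmPts.gmFn_injective
    change Red.gmFn _ = Red.gmFn _
    rw [gmFn_comp, hφ, hf]
  have h2 : AutFam.IsHomFamily G (Red.Gm S) φ := by
    rw [isHomFamily_iff]
    have h3 : IsAffine ((G ⊗ G) ⊗ W).left := isAffine_tens_sq G W hW h0
    have h4 : Flat (G ⊗ G).hom := flat_tens_hom G G
    refine gm_ext ϖ hj hloc hreg (isPullback_tens (G ⊗ G) hW') h3 (flat_struct (G ⊗ G) p hp) ?_
    have e : ∀ m : G ⊗ G ⟶ G, (G ⊗ G) ◁ g' ≫ m ▷ W ≫ φ = m ▷ W' ≫ K311.Fam.fam K x := by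
      intro m
      rw [whisker_exchange_assoc, h1]
    rw [comp_mul, e, e, e]
    exact (isHomFamily_iff _).1 (K311.Fam.isHomFamily_fam K x)
  refine ⟨K311.Fam.mk K φ h2, ?_, ?_⟩
  · apply K311.Fam.fam_injective K (T := W')
    rw [K311.Fam.fam_map K g', K311.Fam.fam_mk, h1]
  · have hPa : IsAffine P.left := by
      have h : IsPullback q₁.left q₂.left p.left p.left := hP.map (Over.forget S)
      have : IsAffine (Over.mk t).left := inferInstanceAs (IsAffine (Spec R))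
      exact IsAffine.of_isPullback h
    have h5 : Flat (q₁ ≫ p).left := by
      have h : IsPullback q₁.left q₂.left p.left p.left := hP.map (Over.forget S)
      have : Flat q₁.left := MorphismProperty.of_isPullback (P := @Flat) h.flip hp
      rw [Over.comp_left]
      infer_instance
    refine sec_ext ϖ hj hloc hreg hG hPa h5 hP' ?_
    rw [map_add]
    have e : ∀ (q : P ⟶ W) (q' : P' ⟶ W') (_ : q' ≫ g' = r ≫ q),
        (K311.Fam.hom K G (Red.Gm S)).obj.map r.op ((K311.Fam.hom K G (Red.Gm S)).obj.map q.op (K311.Fam.mk K φ h2)) =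
          (K311.Fam.hom K G (Red.Gm S)).obj.map q'.op x := by
      intro q q' hq
      apply K311.Fam.fam_injective K (T := P')
      rw [K311.Fam.fam_map K r, K311.Fam.fam_map K q, K311.Fam.fam_map K q', K311.Fam.fam_mk, ← whiskerLeft_comp_assoc,
        ← hq, whiskerLeft_comp_assoc, h1]
    rw [e q₁ q₁' hq₁, e q₂ q₂' hq₂]
    exact hc

end sheaf

end K223.CharExt
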