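import Groth.Agent.TateGlob.K223.CharAlg
import Groth.Agent.GmDual.K311.Fam
import Groth.Prelude.Def_GmPts
import Mathlib.RingTheory.Flat.TorsionFree

/-!
# Functions on `G ⊗ X` for `X` over `Spec R`

Localisation, reduction and squares for `G ⊗ X`, in `Over S`.
-/

set_option autoImplicit false
universe u

open CategoryTheory CategoryTheory.Limits AlgebraicGeometry MonoidalCategory CartesianMonoidalCategory MonObj

namespace K223.CharFn

open K223.CharAlg

variable {S : Scheme.{u}}

theorem isPullback_wl (A : Over S) {X Y : Over S} (f : X ⟶ Y) : IsPullback (A ◁ f) (snd A X) (snd A Y) f where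
  w := by simp
  isLimit' := ⟨PullbackCone.IsLimit.mk _ (fun s => lift (s.fst ≫ fst A Y) s.snd)
    (fun s => by
      apply CartesianMonoidalCategory.hom_ext
      · simp
      · simp [s.condition])
    (fun s => by simp)
    (fun s m h1 h2 => by
      apply CartesianMonoidalCategory.hom_ext
      · simp [← h1]
      · simpa using h2)⟩

theorem isPullback_tens (A : Over S) {P X Y T : Over S} {a : P ⟶ X} {b : P ⟶ Y} {f : X ⟶ T} {g : Y ⟶ T}
    (h : IsPullback a b f g) : IsPullback (A ◁ a) (snd A P ≫ b) (snd A X ≫ f) g :=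
  (isPullback_wl A a).paste_vert h

theorem isPullback_sq (A X : Over S) :
    IsPullback (fst A A ▷ X) (snd A A ▷ X) (snd A X) (snd A X) where
  w := by simp
  isLimit' := ⟨PullbackCone.IsLimit.mk _
    (fun s => lift (lift (s.fst ≫ fst A X) (s.snd ≫ fst A X)) (s.fst ≫ snd A X))
    (fun s => by
      apply CartesianMonoidalCategory.hom_ext
      · simp
      · simp)
    (fun s => by
      apply CartesianMonoidalCategory.hom_ext
      · simp
      · simp [s.condition])
    (fun s m h1 h2 => by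
      apply CartesianMonoidalCategory.hom_ext
      · apply CartesianMonoidalCategory.hom_ext
        · simp [← h1]
        · simp [← h2]
      · simp [← h1])⟩

theorem flat_snd (A X : Over S) [Flat A.hom] : Flat (snd A X).left :=
  inferInstanceAs (Flat (pullback.snd A.hom X.hom))

theorem flat_fst (A X : Over S) [Flat X.hom] : Flat (fst A X).left :=
  inferInstanceAs (Flat (pullback.fst A.hom X.hom))

/-- `A ⊗ X` is affine if `A ⊗ T` is. -/
theorem isAffine_tens (A : Over S) {T X : Over S} (f : X ⟶ T) (hT : IsAffine T.left) (hX : IsAffine X.left)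
    (hA : IsAffine (A ⊗ T).left) : IsAffine (A ⊗ X).left := by
  have h : IsPullback (A ◁ f).left (snd A X).left (snd A T).left f.left := (isPullback_wl A f).map (Over.forget S)
  exact IsAffine.of_isPullback h

/-- `(A ⊗ A) ⊗ X` is affine if `A ⊗ X` is. -/
theorem isAffine_tens_sq (A X : Over S) (hX : IsAffine X.left) (hA : IsAffine (A ⊗ X).left) :
    IsAffine ((A ⊗ A) ⊗ X).left := by
  have h : IsPullback (fst A A ▷ X).left (snd A A ▷ X).left (snd A X).left (snd A X).left :=
    (isPullback_sq A X).map (Over.forget S)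
  exact IsAffine.of_isPullback h

theorem flat_tens_hom (A B : Over S) [Flat A.hom] [Flat B.hom] : Flat (A ⊗ B).hom := by
  have h := flat_snd A B
  have : (A ⊗ B).hom = (snd A B).left ≫ B.hom := (Over.w _).symm
  rw [this]
  infer_instance

theorem flat_struct (A : Over S) [Flat A.hom] {X T : Over S} (q : X ⟶ T) (hq : Flat q.left) :
    Flat (snd A X ≫ q).left := by
  have h := flat_snd A X
  rw [Over.comp_left]
  infer_instance

/-- hom families, checked on the universal point -/
theorem isHomFamily_iff {G H : Over S} [GrpObj G] [GrpObj H] {T : Over S} (φ : G ⊗ T ⟶ H) :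
    AutFam.IsHomFamily G H φ ↔ μ[G] ▷ T ≫ φ = (fst G G ▷ T ≫ φ) * (snd G G ▷ T ≫ φ) := by
  have e1 : lift (fst (G ⊗ G) T ≫ fst G G) (snd (G ⊗ G) T) = fst G G ▷ T := by
    apply CartesianMonoidalCategory.hom_ext <;> simp
  have e2 : lift (fst (G ⊗ G) T ≫ snd G G) (snd (G ⊗ G) T) = snd G G ▷ T := by
    apply CartesianMonoidalCategory.hom_ext <;> simp
  have e3 : lift ((fst (G ⊗ G) T ≫ fst G G) * (fst (G ⊗ G) T ≫ snd G G)) (snd (G ⊗ G) T) = μ[G] ▷ T := by
    apply CartesianMonoidalCategory.hom_ext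
    · rw [lift_fst, whiskerRight_fst, Hom.mul_def, ← comp_lift, lift_fst_snd, Category.comp_id]
    · simp
  constructor
  · intro h
    have := h ((G ⊗ G) ⊗ T) (fst (G ⊗ G) T ≫ fst G G) (fst (G ⊗ G) T ≫ snd G G) (snd (G ⊗ G) T)
    rwa [e1, e2, e3] at this
  · intro h X g₁ g₂ t
    have h1 := congrArg (fun q => lift (lift g₁ g₂) t ≫ q) h
    simp only [comp_mul] at h1
    have f1 : lift (lift g₁ g₂) t ≫ μ[G] ▷ T ≫ φ = lift (g₁ * g₂) t ≫ φ := by
      rw [← Category.assoc, lift_whiskerRight]
      rfl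
    have f2 : lift (lift g₁ g₂) t ≫ fst G G ▷ T ≫ φ = lift g₁ t ≫ φ := by
      rw [← Category.assoc, lift_whiskerRight, lift_fst]
    have f3 : lift (lift g₁ g₂) t ≫ snd G G ▷ T ≫ φ = lift g₂ t ≫ φ := by
      rw [← Category.assoc, lift_whiskerRight, lift_snd]
    rw [f1, f2, f3] at h1
    exact h1

/-! ## Localisation -/

section loc

variable {R R' : CommRingCat.{u}} {χ : R ⟶ R'} (ϖ : R) {t : Spec R ⟶ S} {t' : Spec R' ⟶ S}
  {j : Over.mk t' ⟶ Over.mk t}

/-- The data of an affine scheme over `T` and its base change along the localisation `T' ⟶ T`. -/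
theorem away_of (hj : j.left = Spec.map χ) (hloc : @IsLocalization.Away R _ ϖ R' _ χ.hom.toAlgebra)
    {Z Z' : Over S} {q : Z ⟶ Over.mk t} {a : Z' ⟶ Z} {b : Z' ⟶ Over.mk t'} (h : IsPullback a b q j)
    (hZ : IsAffine Z.left) :
    @IsLocalization.Away Γ(Z.left, ⊤) _ (str (R := R) q.left ϖ) Γ(Z'.left, ⊤) _ a.left.appTop.hom.toAlgebra := by
  have h1 := h.map (Over.forget S)
  have h2 : IsPullback a.left b.left q.left (Spec.map χ) := by
    rw [← hj]
    exact h1
  exact away_appTop h2 ϖ hloc

variable (hj : j.left = Spec.map χ) (hloc : @IsLocalization.Away R _ ϖ R' _ χ.hom.toAlgebra)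
  {Z Z' : Over S} {q : Z ⟶ Over.mk t} {a : Z' ⟶ Z} {b : Z' ⟶ Over.mk t'} (h : IsPullback a b q j)
  (hZ : IsAffine Z.left)

include hj hloc h hZ in
theorem isUnit_str : IsUnit (a.left.appTop (str (R := R) q.left ϖ)) := by
  have h1 := away_of ϖ hj hloc h hZ
  let _ := a.left.appTop.hom.toAlgebra
  exact IsLocalization.Away.algebraMap_isUnit (S := Γ(Z'.left, ⊤)) (str (R := R) q.left ϖ)

include hj hloc h hZ in
theorem exists_num (z : Γ(Z'.left, ⊤)) :
    ∃ (n : ℕ) (x : Γ(Z.left, ⊤)), a.left.appTop x = a.left.appTop (str (R := R) q.left ϖ) ^ n * z := by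
  have h1 := away_of ϖ hj hloc h hZ
  let _ := a.left.appTop.hom.toAlgebra
  obtain ⟨n, x, hx⟩ := IsLocalization.Away.surj (S := Γ(Z'.left, ⊤)) (str (R := R) q.left ϖ) z
  refine ⟨n, x, ?_⟩
  rw [mul_comm]
  exact hx.symm

theorem mem_nonZeroDivisors (hreg : ϖ ∈ nonZeroDivisors R) (hq : Flat q.left) (hZ : IsAffine Z.left) :
    str (R := R) q.left ϖ ∈ nonZeroDivisors Γ(Z.left, ⊤) := by
  have h1 : (str (R := R) q.left).hom.Flat := flat_str (R := R) q.left
  algebraize [(str (R := R) q.left).hom]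
  have h2 := Module.Flat.isSMulRegular_of_nonZeroDivisors (M := Γ(Z.left, ⊤)) hreg
  refine (mem_nonZeroDivisors_iff_right).2 fun x hx => ?_
  apply h2
  simp only [smul_zero]
  rw [Algebra.smul_def, mul_comm]
  exact hx

include hj hloc h hZ in
theorem appTop_injective (hreg : ϖ ∈ nonZeroDivisors R) (hq : Flat q.left) :
    Function.Injective a.left.appTop := by
  have h1 := away_of ϖ hj hloc h hZ
  have h2 := mem_nonZeroDivisors ϖ hreg hq hZ
  let _ := a.left.appTop.hom.toAlgebra
  exact IsLocalization.injective (M := Submonoid.powers (str (R := R) q.left ϖ)) Γ(Z'.left, ⊤)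
    ((Submonoid.powers_le).2 h2)

end loc

end K223.CharFn
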