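import Groth.Agent.TateGlob.K223.CharExt
import Groth.Agent.TateGlob.K827.Tor
import Groth.Agent.TateGlob.K828.FppfDisj

/-!
# `H^1(O_v, 𝒢^) → H^1(K_v, 𝒢^)` is injective and `H^0(O_v, 𝒢^) → H^0(K_v, 𝒢^)` is bijective when `𝒢 × O_v` is affine
-/

set_option autoImplicit false
set_option linter.unusedSectionVars false
universe u

open CategoryTheory CategoryTheory.Limits AlgebraicGeometry MonoidalCategory CartesianMonoidalCategory Opposite
open K828 K827.H1

namespace K223.DualInt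

open K223.CharAlg K223.CharFn K223.CharExt

variable {S : Scheme.{u}}

local notation "K" => Scheme.fppfPrecoverage

/-- A point of `W` over the closed point of `Spec R`. -/
theorem exists_point {R : CommRingCat.{u}} {t : Spec R ⟶ S} (ϖ : R) (hmax : (Ideal.span {ϖ}).IsMaximal)
    {W : Over S} (p : W ⟶ Over.mk t) (hp : Surjective p.left) :
    ∃ (κ : CommRingCat.{u}) (_ : IsField κ) (ρ : R ⟶ κ) (_ : RingHom.ker ρ.hom = Ideal.span {ϖ}) (k : Spec κ ⟶ S)
      (w : Over.mk k ⟶ W), (w ≫ p).left = Spec.map ρ := by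
  obtain ⟨y, hy⟩ := hp.surj (show (Spec R) from ⟨Ideal.span {ϖ}, hmax.isPrime⟩)
  let w : Over.mk (W.left.fromSpecResidueField y ≫ W.hom) ⟶ W := Over.homMk (W.left.fromSpecResidueField y) rfl
  let ρ : R ⟶ W.left.residueField y := Spec.preimage (w ≫ p).left
  have hρ : (w ≫ p).left = Spec.map ρ := (Spec.map_preimage _).symm
  refine ⟨W.left.residueField y, Field.toIsField _, ρ, ?_, _, w, hρ⟩
  have h1 : (Spec.map ρ) (show Spec (W.left.residueField y) from ⟨⊥, Ideal.isPrime_bot⟩) =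
      (show (Spec R) from ⟨Ideal.span {ϖ}, hmax.isPrime⟩) := by
    rw [← hρ, ← hy, Over.comp_left, Scheme.Hom.comp_apply]
    congr 1
    exact Scheme.fromSpecResidueField_apply _ _
  have h2 := congrArg (fun z : PrimeSpectrum R => z.asIdeal) h1
  exact h2

section

variable {R R' : CommRingCat.{u}} {χ : R ⟶ R'} (ϖ : R) {t : Spec R ⟶ S} {t' : Spec R' ⟶ S}
  {j : Over.mk t' ⟶ Over.mk t} (hj : j.left = Spec.map χ)
  (hloc : @IsLocalization.Away R _ ϖ R' _ χ.hom.toAlgebra) (hreg : ϖ ∈ nonZeroDivisors R)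
  (hmax : (Ideal.span {ϖ}).IsMaximal)
  {G : Over S} [GrpObj G] [IsCommMonObj G] [Flat G.hom] (hG : IsAffine (G ⊗ Over.mk t).left)

/-- Every class of degree one dies on an affine covering. -/
theorem exists_dies (𝓗 : CohT K S) {F : BigSite.Ab K S} {T : Over S} (hT : IsAffine T.left) (x : 𝓗.H F 1 T) :
    ∃ (T' : Over S) (p : T' ⟶ T), K594.Cover.Cov p ∧ IsAffine T'.left ∧ 𝓗.res p x = 0 := by
  have hI : Injective (emb F).X₂ := inferInstanceAs (Injective (Injective.under F))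
  obtain ⟨y, rfl⟩ := 𝓗.exists_del (emb_exact F) x
  obtain ⟨q, rfl⟩ : ∃ q, y = 𝓗.sec.symm q := ⟨𝓗.sec y, (AddEquiv.symm_apply_apply _ _).symm⟩
  obtain ⟨T', p, b, ht, hT', hb⟩ := K827.Tor.exists_cov_lift (emb_exact F) q
  refine ⟨T', p, ht, hT', ?_⟩
  have h1 : 𝓗.res p (𝓗.sec.symm q) = 𝓗.sec.symm (rs (emb F).X₃ p q) := by
    apply 𝓗.sec.injective
    rw [𝓗.sec_res, AddEquiv.apply_symm_apply, AddEquiv.apply_symm_apply]
  refine (𝓗.del_res (emb_exact F) p _).symm.trans ?_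
  rw [h1, del_sec_eq_zero_iff]
  exact ⟨b, hb⟩

include hj hloc hreg hmax hG in
/-- **Injectivity in degree one.** -/
theorem eq_zero_one (𝓗 : CohT K S) (x : 𝓗.H (K311.Fam.hom K G (Red.Gm S)) 1 (Over.mk t))
    (hx : 𝓗.res j x = 0) : x = 0 := by
  obtain ⟨W, p, hcov, hW, hres⟩ := exists_dies 𝓗 (T := Over.mk t) (inferInstanceAs (IsAffine (Spec R))) x
  obtain ⟨c, hc⟩ := exists_coc p x hres
  obtain ⟨κ, hκ, ρ, hker, k, w, hw⟩ := exists_point ϖ hmax p hcov.surj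
  have hW' : IsPullback (pullback.fst p j) (pullback.snd p j) p j := IsPullback.of_hasPullback _ _
  have hP : IsPullback (pullback.fst p p) (pullback.snd p p) p p := IsPullback.of_hasPullback _ _
  have hP' : IsPullback (pullback.fst (pullback.fst p p ≫ p) j) (pullback.snd (pullback.fst p p ≫ p) j)
    (pullback.fst p p ≫ p) j := IsPullback.of_hasPullback _ _
  generalize pullback.fst p j = g' at hW'
  generalize pullback.snd p j = p' at hW'
  generalize pullback.fst p p = q₁ at hP hP'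
  generalize pullback.snd p p = q₂ at hP
  generalize pullback.fst (q₁ ≫ p) j = r at hP'
  generalize pullback.snd (q₁ ≫ p) j = s at hP'
  obtain ⟨b, hb⟩ := ((hx ▸ hc.res j g' hW'.w : IsCls 𝓗 p' _ 0)).exists_cob
  let q₁' := hW'.lift (r ≫ q₁) s (by rw [Category.assoc, hP'.w])
  let q₂' := hW'.lift (r ≫ q₂) s (by rw [Category.assoc, ← hP.w, hP'.w])
  have hq₁ : q₁' ≫ g' = r ≫ q₁ := hW'.lift_fst _ _ _
  have hq₂ : q₂' ≫ g' = r ≫ q₂ := hW'.lift_fst _ _ _
  have hq₁s : q₁' ≫ p' = s := hW'.lift_snd _ _ _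
  have hq₂s : q₂' ≫ p' = s := hW'.lift_snd _ _ _
  have hrel := hb q₁' q₂' (by rw [hq₁s, hq₂s])
  rw [hq₁, hq₂, hc.isCoc.nat r q₁ q₂ hP.w] at hrel
  obtain ⟨y, -, hy⟩ := extend ϖ hj hloc hreg hG hW hcov.flat hW' hP hP' hq₁ hq₂ hκ hker hw b (c _ q₁ q₂)
    (sub_eq_iff_eq_add.1 hrel.symm)
  refine hc.eq_zero (K828.FppfDisj.generate_mem p hcov.flat hcov.lfp hcov.surj) y ?_
  intro V a a' haa
  have hl1 : hP.lift a a' haa ≫ q₁ = a := hP.lift_fst _ _ _
  have hl2 : hP.lift a a' haa ≫ q₂ = a' := hP.lift_snd _ _ _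
  have h1 := hc.isCoc.nat (hP.lift a a' haa) q₁ q₂ hP.w
  rw [hl1, hl2] at h1
  have h2 : c _ q₁ q₂ = rs _ q₂ y - rs _ q₁ y := (sub_eq_iff_eq_add.2 hy).symm
  rw [h1, h2]
  refine (map_sub _ _ _).trans ?_
  have h3 := rs_comp (K311.Fam.hom K G (Red.Gm S)) (hP.lift a a' haa) q₁ y
  have h4 := rs_comp (K311.Fam.hom K G (Red.Gm S)) (hP.lift a a' haa) q₂ y
  rw [hl1] at h3
  rw [hl2] at h4
  exact congrArg₂ (· - ·) h4 h3

include hj hloc hreg hmax hG in
/-- **Bijectivity on sections.** -/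
theorem sections_bijective :
    Function.Bijective ((K311.Fam.hom K G (Red.Gm S)).obj.map j.op) := by
  have h1 : IsPullback j (𝟙 _) (𝟙 _) j := IsPullback.of_vert_isIso ⟨by simp⟩
  have hT : IsAffine (Over.mk t).left := inferInstanceAs (IsAffine (Spec R))
  have hf : Flat (𝟙 (Over.mk t) : Over.mk t ⟶ Over.mk t).left := inferInstanceAs (Flat (𝟙 (Spec R)))
  have hs : Surjective (𝟙 (Over.mk t) : Over.mk t ⟶ Over.mk t).left := inferInstanceAs (Surjective (𝟙 (Spec R)))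
  refine ⟨fun x y hxy => sec_ext ϖ hj hloc hreg hG hT hf h1 hxy, fun b => ?_⟩
  obtain ⟨κ, hκ, ρ, hker, k, w, hw⟩ := exists_point ϖ hmax (𝟙 (Over.mk t)) hs
  have hP : IsPullback (𝟙 (Over.mk t)) (𝟙 _) (𝟙 _) (𝟙 _) := IsPullback.of_vert_isIso ⟨by simp⟩
  have hP' : IsPullback j (𝟙 _) (𝟙 _ ≫ 𝟙 _) j := IsPullback.of_vert_isIso ⟨by simp⟩
  obtain ⟨y, hy, -⟩ := extend (r := j) ϖ hj hloc hreg hG hT hf h1 hP hP' (q₁' := 𝟙 _) (q₂' := 𝟙 _) (by simp) (by simp)
    hκ hker hw b 0 (by rw [map_zero, zero_add])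
  exact ⟨y, hy⟩

end

end K223.DualInt
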