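import Groth.Agent.TateGlob.K223.DualInt
import Groth.Agent.TateGlob.K828.BigCoh
import Groth.Prelude.Def_AdFn

/-!
# Uniformizers of `O_v` and the local statements for `𝒢 × O_v` affine
-/

set_option autoImplicit false
universe u

open CategoryTheory CategoryTheory.Limits AlgebraicGeometry MonoidalCategory CartesianMonoidalCategory Opposite

namespace K223.OvUnif

variable {k K : Type u} [Field k] [Field K] [Algebra k K]

open WithZero

theorem exists_unif (v : FunFld.Place k K) : ∃ ϖ : AdFn.Ov v, Valued.v (ϖ : AdFn.Kv v) = exp (-1 : ℤ) := by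
  obtain ⟨x, hx⟩ := v.2.2 (exp (-1 : ℤ))
  have h1 : Valued.v (AdFn.toKv v x) = exp (-1 : ℤ) := by rw [AdFn.valued_toKv, hx]
  refine ⟨⟨AdFn.toKv v x, ?_⟩, h1⟩
  rw [AdFn.mem_Ov, h1, ← exp_zero]
  exact exp_le_exp.2 (by norm_num)

variable {v : FunFld.Place k K} {ϖ : AdFn.Ov v} (hϖ : Valued.v (ϖ : AdFn.Kv v) = exp (-1 : ℤ))

include hϖ

theorem ne_zero : (ϖ : AdFn.Kv v) ≠ 0 := by
  intro h
  rw [h, map_zero] at hϖ
  exact exp_ne_zero hϖ.symm

theorem ne_zero' : ϖ ≠ 0 := fun h => ne_zero hϖ (by rw [h]; rfl)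

theorem mem_nonZeroDivisors : ϖ ∈ nonZeroDivisors (AdFn.Ov v) := mem_nonZeroDivisors_of_ne_zero (ne_zero' hϖ)

theorem isMaximal : (Ideal.span {ϖ}).IsMaximal := by
  have h1 : Ideal.span {ϖ} = IsLocalRing.maximalIdeal (AdFn.Ov v) := by
    apply le_antisymm
    · rw [Ideal.span_le, Set.singleton_subset_iff]
      change ϖ ∈ IsLocalRing.maximalIdeal (AdFn.Ov v)
      rw [IsLocalRing.mem_maximalIdeal, mem_nonunits_iff]
      intro hu
      obtain ⟨y, hy⟩ := hu.exists_right_inv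
      have h2 := congrArg (fun z : AdFn.Ov v => Valued.v (z : AdFn.Kv v)) hy
      have h3 : Valued.v (ϖ : AdFn.Kv v) * Valued.v (y : AdFn.Kv v) = 1 := by
        refine (map_mul _ _ _).symm.trans ?_
        exact h2.trans (map_one _)
      have h4 : Valued.v (y : AdFn.Kv v) ≤ 1 := y.2
      rw [hϖ] at h3
      have h5 : (1 : WithZero (Multiplicative ℤ)) ≤ exp (-1 : ℤ) := by
        calc (1 : WithZero (Multiplicative ℤ)) = exp (-1 : ℤ) * Valued.v (y : AdFn.Kv v) := h3.symm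
          _ ≤ exp (-1 : ℤ) * 1 := mul_le_mul_right h4 _
          _ = exp (-1 : ℤ) := mul_one _
      rw [← exp_zero, exp_le_exp] at h5
      omega
    · intro y hy
      by_cases hy0 : (y : AdFn.Kv v) = 0
      · have : y = 0 := Subtype.ext hy0
        rw [this]
        exact Ideal.zero_mem _
      rw [IsLocalRing.mem_maximalIdeal, mem_nonunits_iff] at hy
      have h2 : Valued.v (y : AdFn.Kv v) ≠ 1 := by
        intro h
        apply hy
        have h3 : (y : AdFn.Kv v)⁻¹ ∈ AdFn.Ov v := by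
          rw [AdFn.mem_Ov, map_inv₀, h, inv_one]
        refine IsUnit.of_mul_eq_one ⟨_, h3⟩ ?_
        apply Subtype.ext
        exact mul_inv_cancel₀ hy0
      have h3 : Valued.v (y : AdFn.Kv v) ≤ 1 := y.2
      have h4 : Valued.v ((y : AdFn.Kv v) * (ϖ : AdFn.Kv v)⁻¹) ≤ 1 := by
        rw [map_mul, map_inv₀, hϖ]
        have h5 : Valued.v (y : AdFn.Kv v) ≠ 0 := (Valuation.ne_zero_iff _).2 hy0
        obtain ⟨m, hm⟩ : ∃ m : ℤ, Valued.v (y : AdFn.Kv v) = exp m := ⟨_, (exp_log h5).symm⟩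
        rw [hm, ← exp_neg, ← exp_add, ← exp_zero, exp_le_exp]
        rw [hm, ← exp_zero] at h2 h3
        have h6 := exp_le_exp.1 h3
        have h7 : m ≠ 0 := fun h => h2 (by rw [h])
        omega
      rw [Ideal.mem_span_singleton]
      refine ⟨⟨_, h4⟩, Subtype.ext ?_⟩
      change (y : AdFn.Kv v) = (ϖ : AdFn.Kv v) * ((y : AdFn.Kv v) * (ϖ : AdFn.Kv v)⁻¹)
      rw [mul_comm (y : AdFn.Kv v), ← mul_assoc, mul_inv_cancel₀ (ne_zero hϖ), one_mul]
  rw [h1]
  exact IsLocalRing.maximalIdeal.isMaximal _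

theorem away : @IsLocalization.Away (CommRingCat.of (AdFn.Ov v)) _ ϖ (CommRingCat.of (AdFn.Kv v)) _
    (CommRingCat.ofHom (AdFn.Ov v).subtype).hom.toAlgebra := by
  let _ : Algebra (AdFn.Ov v) (AdFn.Kv v) := (AdFn.Ov v).subtype.toAlgebra
  change IsLocalization.Away ϖ (AdFn.Kv v)
  refine IsLocalization.Away.mk (R := AdFn.Ov v) (S := AdFn.Kv v) ϖ ?_ ?_ ?_
  · exact (isUnit_iff_ne_zero).2 (ne_zero hϖ)
  · intro z
    by_cases hz : z = 0
    · exact ⟨0, 0, by rw [hz]; simp⟩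
    have h5 : Valued.v z ≠ 0 := (Valuation.ne_zero_iff _).2 hz
    obtain ⟨m, hm⟩ : ∃ m : ℤ, Valued.v z = exp m := ⟨_, (exp_log h5).symm⟩
    refine ⟨m.toNat, ⟨z * (ϖ : AdFn.Kv v) ^ m.toNat, ?_⟩, rfl⟩
    rw [AdFn.mem_Ov, map_mul, map_pow, hϖ, hm, ← exp_nsmul, ← exp_add, ← exp_zero, exp_le_exp]
    have := Int.self_le_toNat m
    simp only [nsmul_eq_mul, mul_neg, mul_one]
    omega
  · intro a b hab
    exact ⟨0, by rw [Subtype.ext hab]⟩

end K223.OvUnif
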